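import Groth.Agent.Lib.Spectral25.Pull
import Groth.Agent.Lib.GVanish.Sober
import Groth.Agent.Lib.SheafCoh.Leray
import Mathlib.Topology.KrullDimension
import Mathlib.Topology.Separation.Profinite
import Mathlib.Topology.Sheaves.Abelian

/-!
# Cohomological dimension of spectral spaces
-/

set_option autoImplicit false
set_option backward.isDefEq.respectTransparency false
set_option backward.isDefEq.respectTransparency.types false

universe u

open CategoryTheory CategoryTheory.Limits Opposite TopologicalSpace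
open GrothLib.PBC25
open scoped Topology

namespace GrothLib.Spectral25

noncomputable section

variable (X : TopCat.{u})

/-- The space with the constructible topology. -/
abbrev ConsTop : TopCat.{u} := TopCat.of (WithConstructibleTopology X)

variable [SpectralSpace X]

theorem continuous_cons :
    Continuous (WithTopology.ofTopology : WithConstructibleTopology X → X) := by
  refine (PrespectralSpace.isTopologicalBasis (X := X)).continuous_iff.2 fun s hs => ?_
  exact @IsOpen.preimage _ _ _ (constructibleTopology X) _ (WithTopology.continuous_ofTopology _) _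
    (hs.2.isOpen_constructibleTopology_of_isOpen hs.1)

/-- The map to the original topology. -/
def consMap : ConsTop X ⟶ X := TopCat.ofHom ⟨WithTopology.ofTopology, continuous_cons X⟩

theorem isClopen_preimage (U : Opens X) (hU : IsCompact (U : Set X)) :
    IsClopen ((consMap X) ⁻¹' (U : Set X)) := by
  refine ⟨?_, U.isOpen.preimage (consMap X).hom.continuous⟩
  rw [← isOpen_compl_iff, ← Set.preimage_compl]
  exact @IsOpen.preimage _ _ _ (constructibleTopology X) _ (WithTopology.continuous_ofTopology _) _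
    (IsCompact.isOpen_constructibleTopology_of_isClosed (by rwa [compl_compl])
      U.isOpen.isClosed_compl)

theorem totallySeparated : TotallySeparatedSpace (ConsTop X) := by
  refine totallySeparatedSpace_iff_exists_isClopen.2 fun a b hab => ?_
  have hne : (consMap X) a ≠ (consMap X) b := fun e =>
    hab (WithTopology.ofTopology_injective _ e)
  obtain ⟨O, hO, h⟩ := exists_isOpen_xor_mem hne
  rcases h with ⟨ha, hb⟩ | ⟨hb, ha⟩
  · obtain ⟨B, ⟨hBo, hBc⟩, haB, hBO⟩ :=
      (PrespectralSpace.isTopologicalBasis (X := X)).exists_subset_of_mem_open ha hO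
    exact ⟨_, isClopen_preimage X ⟨B, hBo⟩ hBc, haB, fun h => hb (hBO h)⟩
  · obtain ⟨B, ⟨hBo, hBc⟩, hbB, hBO⟩ :=
      (PrespectralSpace.isTopologicalBasis (X := X)).exists_subset_of_mem_open hb hO
    exact ⟨_, (isClopen_preimage X ⟨B, hBo⟩ hBc).compl, fun h => ha (hBO h), fun h => h hbB⟩

theorem compactSpace_cons : CompactSpace (ConsTop X) :=
  inferInstanceAs (CompactSpace (WithConstructibleTopology X))

theorem t2Space_cons : T2Space (ConsTop X) := by
  have := totallySeparated X
  refine ⟨fun a b hab => ?_⟩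
  obtain ⟨U, hU, ha, hb⟩ := totallySeparatedSpace_iff_exists_isClopen.1 this hab
  exact ⟨U, Uᶜ, hU.isOpen, hU.isClosed.isOpen_compl, ha, hb, disjoint_compl_right⟩

theorem prespectral_cons : PrespectralSpace (ConsTop X) := by
  have := totallySeparated X
  have := compactSpace_cons X
  have := t2Space_cons X
  exact .of_isTopologicalBasis isTopologicalBasis_isClopen
    fun U hU => (IsClopen.isClosed hU).isCompact

theorem isQcFlasque_cons (H : CohTop.Ab (ConsTop X)) : IsQcFlasque H := by
  intro U hU s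
  have := t2Space_cons X
  let C : Opens (ConsTop X) := ⟨(U : Set (ConsTop X))ᶜ, hU.isClosed.isOpen_compl⟩
  obtain ⟨t, ht, -⟩ := glue₂ H s (0 : H.obj.obj (op C)) (eq_of_cover _ fun y hy => (hy.2 hy.1).elim)
  have e : U ⊔ C = ⊤ := eq_top_iff.2 fun y _ => by
    by_cases hy : y ∈ U
    · exact Or.inl hy
    · exact Or.inr hy
  refine ⟨H.obj.map (homOfLE e.ge).op t, ?_⟩
  rw [res_res, ← ht]

theorem subsingleton_HU_cons (H : CohTop.Ab (ConsTop X)) {U : Opens (ConsTop X)}
    (hU : IsCompact (U : Set (ConsTop X))) (n : ℕ) : Subsingleton (CohTop.HU H (n + 1) U) := by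
  have := t2Space_cons X
  have := prespectral_cons X
  have := compactSpace_cons X
  exact qcFlasque_HU_subsingleton H (isQcFlasque_cons X H) hU n

theorem isZero_Rpush_consMap (H : CohTop.Ab (ConsTop X)) (q : ℕ) :
    IsZero ((CohTop.Rpush (consMap X) (q + 1)).obj H) := by
  refine IsZero.of_iso ?_ (SheafCoh.topRpushIso (consMap X) H (q + 1))
  refine SheafCoh.isZero_sheafify_of_res_locally_zero _ fun V ξ => ?_
  let P : (Opens X)ᵒᵖ ⥤ AddCommGrpCat.{u} :=
    (Opens.map (consMap X)).op ⋙ Sheaf.cohomologyPresheaf.{u} H (q + 1)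
  let S : Sieve V :=
    { arrows := fun W g => P.map g.op ξ = 0
      downward_closed := fun {W W'} g hg h => by
        rw [op_comp, P.map_comp, ConcreteCategory.comp_apply, hg, map_zero] }
  refine ⟨S, fun x hx => ?_, fun W g hg => hg⟩
  obtain ⟨B, ⟨hBo, hBc⟩, hxB, hBV⟩ :=
    (PrespectralSpace.isTopologicalBasis (X := X)).exists_subset_of_mem_open hx V.isOpen
  have hle : (⟨B, hBo⟩ : Opens X) ≤ V := hBV
  have hs : Subsingleton (P.obj (op ⟨B, hBo⟩)) :=
    have := compactSpace_cons X
    subsingleton_HU_cons X H (U := (Opens.map (consMap X)).obj ⟨B, hBo⟩)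
      (isClopen_preimage X ⟨B, hBo⟩ hBc).isClosed.isCompact q
  exact ⟨⟨B, hBo⟩, homOfLE hle, Subsingleton.elim _ _, hxB⟩

variable {X}
variable (F : CohTop.Ab X)

/-- The sheaf of sections in the constructible topology. -/
abbrev consPush : CohTop.Ab X := (CohTop.push (consMap X)).obj ((CohTop.pull (consMap X)).obj F)

theorem subsingleton_H_consPush (n : ℕ) : Subsingleton (CohTop.H (consPush F) (n + 1)) := by
  obtain ⟨e⟩ := SheafCoh.nonempty_H_addEquiv_push (consMap X) ((CohTop.pull (consMap X)).obj F)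
    (isZero_Rpush_consMap X _) (n + 1)
  refine @Equiv.subsingleton _ _ e.symm.toEquiv ?_
  have := compactSpace_cons X
  exact @Equiv.subsingleton _ _
    (SheafCoh.HEquivHU (J := Opens.grothendieckTopology (ConsTop X)) _ (n + 1)
      (isTerminalTop (α := Opens (ConsTop X)))).toEquiv
    (subsingleton_HU_cons X _ (U := ⊤) isCompact_univ n)

/-- Constructible sections from sections. -/
def toCons : F ⟶ consPush F :=
  ⟨{ app := fun V => AddCommGrpCat.ofHom
      (sec (consMap X) F (le_refl ((Opens.map (consMap X)).obj V.unop)))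
     naturality := fun V W a => by
      ext g
      exact ((res_sec (consMap X) F (le_refl ((Opens.map (consMap X)).obj V.unop))
        (leOfHom ((Opens.map (consMap X)).map a.unop)) g).trans
          (sec_res (consMap X) F (leOfHom a.unop) le_rfl g).symm).symm }⟩

theorem toCons_app (V : Opens X) (g : F.obj.obj (op V)) :
    (toCons F).hom.app (op V) g = sec (consMap X) F (le_refl ((Opens.map (consMap X)).obj V)) g := rfl

instance mono_toCons : Mono (toCons F) := by
  have : ∀ V : (Opens X)ᵒᵖ, Mono ((toCons F).hom.app V) := fun V => by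
    rw [AddCommGrpCat.mono_iff_injective]
    refine (injective_iff_map_eq_zero _).2 fun g hg => eq_zero_of_cover F fun x hx => ?_
    obtain ⟨y, rfl⟩ : ∃ y, (consMap X) y = x := WithTopology.ofTopology_surjective _ x
    obtain ⟨V', hV, hxV, e⟩ := sec_zero_local (consMap X) F le_rfl g hg y hx
    exact ⟨V', hV, hxV, e⟩
  have : Mono ((sheafToPresheaf _ _).map (toCons F)) := NatTrans.mono_of_mono_app (toCons F).hom
  exact (sheafToPresheaf _ _).mono_of_mono_map this

/-- Constructible sections vanishing near every generalization of `x` have zero germ at `x`. -/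
theorem germ_eq_zero_of_gen {V : Opens X} {x : X} (hx : x ∈ V)
    (t : (consPush F).obj.obj (op V))
    (h : ∀ y : ConsTop X, (consMap X) y ⤳ x → ∃ (W : Opens (ConsTop X))
      (hW : W ≤ (Opens.map (consMap X)).obj V), y ∈ W ∧
        ((CohTop.pull (consMap X)).obj F).obj.map (homOfLE hW).op t = 0) :
    TopCat.Presheaf.germ (consPush F).obj V x hx t = 0 := by
  classical
  have := compactSpace_cons X
  choose W hW hyW h0 using h
  obtain ⟨B, ⟨hBo, hBc⟩, hxB, hBV⟩ :=
    (PrespectralSpace.isTopologicalBasis (X := X)).exists_subset_of_mem_open hx V.isOpen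
  let N : Opens (ConsTop X) :=
    ⨆ y : {y : ConsTop X // (consMap X) y ⤳ x}, W y.1 y.2
  let C : Set (ConsTop X) := (consMap X) ⁻¹' B ∩ (N : Set (ConsTop X))ᶜ
  have hC : IsCompact C :=
    ((isClopen_preimage X ⟨B, hBo⟩ hBc).isClosed.inter N.isOpen.isClosed_compl).isCompact
  let P := {U : Opens X // x ∈ U ∧ IsCompact (U : Set X)}
  obtain ⟨T, hT⟩ := hC.elim_finite_subcover (fun U : P => ((consMap X) ⁻¹' (U.1 : Set X))ᶜ)
    (fun U => (isClopen_preimage X U.1 U.2.2).isClosed.isOpen_compl) (fun y hy => by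
      have hns : ¬ (consMap X) y ⤳ x := fun hs =>
        hy.2 (Opens.mem_iSup.2 ⟨⟨y, hs⟩, hyW y hs⟩)
      obtain ⟨O, hO, hxO, hyO⟩ := not_specializes_iff_exists_open.1 hns
      obtain ⟨U, ⟨hUo, hUc⟩, hxU, hUO⟩ :=
        (PrespectralSpace.isTopologicalBasis (X := X)).exists_subset_of_mem_open hxO hO
      exact Set.mem_iUnion.2 ⟨⟨⟨U, hUo⟩, hxU, hUc⟩, fun h => hyO (hUO h)⟩)
  let U' : Opens X := ⟨B, hBo⟩ ⊓ T.inf fun U : P => U.1
  have hxU' : x ∈ U' := ⟨hxB, Finset.inf_induction (p := fun U : Opens X => x ∈ U) trivial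
    (fun a ha b hb => ⟨ha, hb⟩) fun U _ => U.2.1⟩
  have hle : U' ≤ V := fun z hz => hBV hz.1
  have hzero : (consPush F).obj.map (homOfLE hle).op t = 0 := by
    refine eq_zero_of_cover ((CohTop.pull (consMap X)).obj F)
      (U := (Opens.map (consMap X)).obj U') fun y hy => ?_
    have hyN : y ∈ N := by
      by_contra hyN
      obtain ⟨U, hU, hyU⟩ := Set.mem_iUnion₂.1 (hT (show y ∈ C from ⟨hy.1, hyN⟩))
      exact hyU ((Finset.inf_le hU : T.inf (fun U : P => U.1) ≤ U.1) hy.2)
    obtain ⟨z, hz⟩ := Opens.mem_iSup.1 hyN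
    refine ⟨W z.1 z.2 ⊓ (Opens.map (consMap X)).obj U', inf_le_right, ⟨hz, hy⟩, ?_⟩
    refine (res_res _ ((Opens.map (consMap X)).map (homOfLE hle)).le inf_le_right t).trans ?_
    rw [← res_res _ (hW z.1 z.2) inf_le_left t, h0 z.1 z.2, map_zero]
  rw [← TopCat.Presheaf.germ_res_apply (consPush F).obj (homOfLE hle) x hxU' t, hzero, map_zero]

theorem sec_locally_zero {W : Opens (ConsTop X)} {V : Opens X}
    (h : W ≤ (Opens.map (consMap X)).obj V) (g : F.obj.obj (op V)) (y : ConsTop X) (hy : y ∈ W)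
    (hg : TopCat.Presheaf.germ F.obj V ((consMap X) y) (h hy) g = 0) :
    ∃ (W' : Opens (ConsTop X)) (hW' : W' ≤ W), y ∈ W' ∧
      ((CohTop.pull (consMap X)).obj F).obj.map (homOfLE hW').op (sec (consMap X) F h g) = 0 := by
  obtain ⟨V', hyV', i₁, i₂, e⟩ := TopCat.Presheaf.germ_eq F.obj ((consMap X) y) (h hy) (h hy) g 0
    (hg.trans (map_zero _).symm)
  refine ⟨W ⊓ (Opens.map (consMap X)).obj V', inf_le_left, ⟨hy, hyV'⟩, ?_⟩
  rw [res_sec, ← sec_res (consMap X) F (leOfHom i₁) inf_le_right]
  have e' : F.obj.map (homOfLE (leOfHom i₁)).op g = 0 := e.trans (map_zero _)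
  rw [e', map_zero]

theorem epi_stalk_toCons (x : X)
    (h : ∀ z : X, z ⤳ x → z ≠ x → IsZero ((Godement25.st' z).obj F)) :
    Epi ((Godement25.st' x).map (toCons F)) := by
  rw [AddCommGrpCat.epi_iff_surjective]
  intro a
  obtain ⟨V, hxV, t, rfl⟩ := TopCat.Presheaf.exists_germ_eq (consPush F).obj a
  obtain ⟨y₀, hy₀⟩ : ∃ y, (consMap X) y = x := WithTopology.ofTopology_surjective _ x
  subst hy₀
  obtain ⟨W, hW, V₀, g, hWV, hyW, e⟩ := exists_sec_local (consMap X) F
    (U := (Opens.map (consMap X)).obj V) t y₀ hxV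
  refine ⟨TopCat.Presheaf.germ F.obj V₀ ((consMap X) y₀) (hWV hyW) g, ?_⟩
  refine (TopCat.Presheaf.stalkFunctor_map_germ_apply V₀ ((consMap X) y₀) (hWV hyW) (toCons F).hom g).trans ?_
  let V' : Opens X := V ⊓ V₀
  have hxV' : (consMap X) y₀ ∈ V' := ⟨hxV, hWV hyW⟩
  rw [← TopCat.Presheaf.germ_res_apply (consPush F).obj (homOfLE (inf_le_right : V' ≤ V₀)) _ hxV',
    ← TopCat.Presheaf.germ_res_apply (consPush F).obj (homOfLE (inf_le_left : V' ≤ V)) _ hxV' t]
  refine sub_eq_zero.1 ((map_sub _ _ _).symm.trans (germ_eq_zero_of_gen F hxV' _ fun y hy => ?_))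
  let T' : Opens (ConsTop X) := (Opens.map (consMap X)).obj V'
  have hyT : y ∈ T' := hy.mem_open V'.isOpen hxV'
  by_cases he : (consMap X) y = (consMap X) y₀
  · obtain rfl : y = y₀ := WithTopology.ofTopology_injective _ he
    refine ⟨W ⊓ T', inf_le_right, ⟨hyW, hyT⟩, ?_⟩
    rw [map_sub, sub_eq_zero]
    refine (congrArg _ (res_sec (consMap X) F (le_refl ((Opens.map (consMap X)).obj V₀))
      ((Opens.map (consMap X)).map (homOfLE (inf_le_right : V' ≤ V₀))).le g)).trans ?_
    refine Eq.trans ?_ (res_res ((CohTop.pull (consMap X)).obj F)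
      ((Opens.map (consMap X)).map (homOfLE (inf_le_left : V' ≤ V))).le inf_le_right t).symm
    rw [res_sec, ← res_res _ hW inf_le_left t, e, res_sec]
  · have hz : Subsingleton ((Godement25.st' ((consMap X) y)).obj F) :=
      AddCommGrpCat.subsingleton_of_isZero (h _ hy he)
    obtain ⟨W₁, hW₁, V₁, g₁, hWV₁, hyW₁, e₁⟩ :=
      exists_sec_local (consMap X) F (U := (Opens.map (consMap X)).obj V) t y hyT.1
    obtain ⟨A, hA, hyA, hA0⟩ := sec_locally_zero F hWV₁ g₁ y hyW₁
      (@Subsingleton.elim _ hz _ _)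
    obtain ⟨A', hA', hyA', hA0'⟩ := sec_locally_zero F (le_refl ((Opens.map (consMap X)).obj V₀)) g y
      hyT.2 (@Subsingleton.elim _ hz _ _)
    refine ⟨A ⊓ A' ⊓ T', inf_le_right, ⟨⟨hyA, hyA'⟩, hyT⟩, ?_⟩
    rw [map_sub]
    refine (congrArg₂ (· - ·) ?_ ?_).trans (sub_zero 0)
    · refine (res_res ((CohTop.pull (consMap X)).obj F)
        ((Opens.map (consMap X)).map (homOfLE (inf_le_right : V' ≤ V₀))).le inf_le_right _).trans ?_
      rw [← res_res _ hA' (inf_le_left.trans inf_le_right), ← toCons_app] at *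
      exact (congrArg _ hA0').trans (map_zero _)
    · refine (res_res ((CohTop.pull (consMap X)).obj F)
        ((Opens.map (consMap X)).map (homOfLE (inf_le_left : V' ≤ V))).le inf_le_right t).trans ?_
      rw [← res_res _ (hA.trans hW₁) (inf_le_left.trans inf_le_left), ← res_res _ hW₁ hA, e₁, hA0,
        map_zero]

omit [SpectralSpace X] in
theorem isZero_stalk_cokernel {A B : CohTop.Ab X} (φ : A ⟶ B) (x : X)
    [Epi ((Godement25.st' x).map φ)] : IsZero ((Godement25.st' x).obj (cokernel φ)) := by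
  haveI : Epi ((Godement25.st' x).map (cokernel.π φ)) := (Godement25.st' x).map_epi _
  refine IsZero.of_epi_eq_zero ((Godement25.st' x).map (cokernel.π φ)) ?_
  rw [← cancel_epi ((Godement25.st' x).map φ), comp_zero, ← Functor.map_comp, cokernel.condition,
    Functor.map_zero]

omit [SpectralSpace X] in
theorem subsingleton_H_left {S : ShortComplex (CohTop.Ab X)} (hS : S.ShortExact) (n : ℕ)
    (h₂ : Subsingleton (CohTop.H S.X₂ (n + 1))) (h₃ : Subsingleton (CohTop.H S.X₃ n)) :
    Subsingleton (CohTop.H S.X₁ (n + 1)) := by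
  refine subsingleton_of_forall_eq 0 fun x => ?_
  obtain ⟨y, hy⟩ := CategoryTheory.Abelian.Ext.covariant_sequence_exact₁ _ hS x
    (Subsingleton.elim (α := CohTop.H S.X₂ (n + 1)) _ _) rfl
  rw [← hy, show y = 0 from Subsingleton.elim (α := CohTop.H S.X₃ n) _ _,
    CategoryTheory.Abelian.Ext.zero_comp]

omit [SpectralSpace X] in
theorem subsingleton_H_of_isZero {G : CohTop.Ab X} (hG : IsZero G) (p : ℕ) :
    Subsingleton (CohTop.H G p) := by
  refine subsingleton_of_forall_eq 0 fun y => ?_
  rw [← Sheaf.H.map_id_apply y, hG.eq_of_src (𝟙 G) 0, Sheaf.H.map_apply, CategoryTheory.Abelian.Ext.mk₀_zero,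
    CategoryTheory.Abelian.Ext.comp_zero]

/-- The closure of a point as an irreducible closed set. -/
def ptCl (x : X) : IrreducibleCloseds X :=
  ⟨closure {x}, isIrreducible_singleton.closure, isClosed_closure⟩

/-- **Vanishing above the dimension of the support.** -/
theorem subsingleton_H_of_support (rk : X → ℕ)
    (hrk : ∀ z x : X, z ⤳ x → z ≠ x → rk z < rk x) (d : ℕ) (hd : ∀ x, rk x ≤ d) :
    ∀ (j : ℕ) (F : CohTop.Ab X),
      (∀ x, rk x + j ≤ d → IsZero ((Godement25.st' x).obj F)) →
        ∀ p, j ≤ p → Subsingleton (CohTop.H F p)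
  | 0, F, hF, p, _ =>
    subsingleton_H_of_isZero ((TopCat.Sheaf.isZero_iff_stalkFunctor_obj_isZero (C := AddCommGrpCat.{u}) F).2
      fun x => hF x (by simpa using hd x)) p
  | j + 1, F, hF, p, hp => by
    obtain ⟨m, rfl⟩ : ∃ m, p = m + 1 := ⟨p - 1, by omega⟩
    have hQ := subsingleton_H_of_support rk hrk d hd j (cokernel (toCons F)) fun x hx =>
      haveI := epi_stalk_toCons F x fun z hz hne => hF z (by have := hrk z x hz hne; omega)
      isZero_stalk_cokernel (toCons F) x
    have hS : (ShortComplex.mk (toCons F) (cokernel.π (toCons F)) (cokernel.condition _)).ShortExact :=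
      { exact := ShortComplex.exact_of_g_is_cokernel _ (cokernelIsCokernel _) }
    exact subsingleton_H_left hS m (subsingleton_H_consPush F m) (hQ m (by omega))

theorem rk_lt (d : ℕ) (hle : ∀ Z : IrreducibleCloseds X, Order.coheight Z ≤ d) {z x : X}
    (hzx : z ⤳ x) (hne : z ≠ x) :
    (Order.coheight (ptCl z)).toNat < (Order.coheight (ptCl x)).toNat := by
  have hlt : ptCl x < ptCl z := by
    refine lt_of_le_of_ne (show closure {x} ⊆ closure {z} from hzx.closure_subset) fun e => hne ?_
    have hz : z ∈ (ptCl z : Set X) := subset_closure rfl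
    rw [← e] at hz
    exact (hzx.antisymm (specializes_iff_mem_closure.2 hz)).eq
  have h1 := Order.coheight_strictAnti hlt ((hle _).trans_lt (ENat.natCast_lt_top d))
  have h2 := hle (ptCl x)
  show (Order.coheight (ptCl z)).toNat < (Order.coheight (ptCl x)).toNat
  lift Order.coheight (ptCl x) to ℕ using ne_top_of_le_ne_top (ENat.natCast_ne_top d) h2 with b
  lift Order.coheight (ptCl z) to ℕ using h1.ne_top with a
  simpa using h1

theorem rk_le (d : ℕ) (hle : ∀ Z : IrreducibleCloseds X, Order.coheight Z ≤ d) (x : X) :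
    (Order.coheight (ptCl x)).toNat ≤ d := by
  have h := ENat.toNat_le_toNat (hle (ptCl x)) (ENat.natCast_ne_top d)
  rwa [ENat.toNat_natCast] at h

theorem subsingleton_H_of_krullDim_le (d : ℕ) (hd : topologicalKrullDim X ≤ d) (p : ℕ) (hp : d < p) :
    Subsingleton (CohTop.H F p) := by
  have hle : ∀ Z : IrreducibleCloseds X, Order.coheight Z ≤ d := fun Z =>
    WithBot.coe_le_coe.1 ((Order.coheight_le_krullDim Z).trans hd)
  exact subsingleton_H_of_support (fun x => (Order.coheight (ptCl x)).toNat)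
    (fun z x hzx hne => rk_lt d hle hzx hne) d (fun x => rk_le d hle x) (d + 1) F
    (fun x hx => absurd hx (by omega)) p hp

end

end GrothLib.Spectral25
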