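import Groth.Agent.Lib.Spectral25.Vanish

/-!
# Restriction in the top degree on spectral spaces
-/

set_option autoImplicit false
set_option backward.isDefEq.respectTransparency false
set_option backward.isDefEq.respectTransparency.types false

universe u

open CategoryTheory CategoryTheory.Limits Opposite TopologicalSpace CategoryTheory.Abelian
open GrothLib.PBC25

namespace GrothLib.Spectral25

noncomputable section

variable {X : TopCat.{u}} [SpectralSpace X]

theorem isQcFlasque_consPush (F : CohTop.Ab X) : IsQcFlasque (consPush F) := by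
  intro U hU s
  have := compactSpace_cons X
  exact isQcFlasque_cons X ((CohTop.pull (consMap X)).obj F) ((Opens.map (consMap X)).obj U)
    (isClopen_preimage X U hU).isClosed.isCompact s

theorem exists_lift_ext (rk : X → ℕ) (hrk : ∀ z x : X, z ⤳ x → z ≠ x → rk z < rk x) (d : ℕ)
    (hd : ∀ x, rk x ≤ d) {U : Opens X} (hU : IsCompact (U : Set X)) :
    ∀ (p j : ℕ) (F : CohTop.Ab X), (∀ x, rk x + j ≤ d → IsZero ((Godement25.st' x).obj F)) →
      j ≤ p + 1 → ∀ e : Ext.{u} (SheafCoh.freeY (Opens.grothendieckTopology X) U) F p,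
        ∃ e' : Ext.{u} (SheafCoh.freeY (Opens.grothendieckTopology X) ⊤) F p,
          (Ext.mk₀ (SheafCoh.freeYMap (Opens.grothendieckTopology X)
            (homOfLE (le_top : U ≤ ⊤)))).comp e' (zero_add p) = e
  | 0, j, F, hF, hj, e => by
    have hz : IsZero (cokernel (toCons F)) :=
      (TopCat.Sheaf.isZero_iff_stalkFunctor_obj_isZero (C := AddCommGrpCat.{u}) _).2 fun x =>
        haveI := epi_stalk_toCons F x fun z hz hne =>
          hF z (by have := hrk z x hz hne; have := hd x; omega)
        isZero_stalk_cokernel (toCons F) x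
    have : Epi (toCons F) := Preadditive.epi_of_isZero_cokernel _ hz
    have : IsIso (toCons F) := isIso_of_mono_of_epi _
    have hiso : ∀ V : Opens X, Function.Bijective ((toCons F).hom.app (op V)) := fun V => by
      have : IsIso ((toCons F).hom.app (op V)) :=
        inferInstanceAs (IsIso (((sheafToPresheaf (Opens.grothendieckTopology X) AddCommGrpCat.{u}).map
          (toCons F)).app (op V)))
      exact ConcreteCategory.bijective_of_isIso _
    obtain ⟨g, rfl⟩ := (Ext.mk₀_bijective _ _).2 e
    obtain ⟨t, ht⟩ := isQcFlasque_consPush F U hU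
      ((toCons F).hom.app (op U) (SheafCoh.homFreeY F U g))
    obtain ⟨t', rfl⟩ := (hiso ⊤).2 t
    obtain ⟨g', rfl⟩ := (SheafCoh.homFreeY F ⊤).surjective t'
    rw [← app_res] at ht
    refine ⟨Ext.mk₀ g', ?_⟩
    rw [Ext.mk₀_comp_mk₀]
    congr 1
    apply (SheafCoh.homFreeY F U).injective
    rw [SheafCoh.homFreeY_map]
    exact (hiso U).1 ht
  | p + 1, 0, F, hF, _, e => by
    refine ⟨0, ?_⟩
    have hz : IsZero F := (TopCat.Sheaf.isZero_iff_stalkFunctor_obj_isZero
      (C := AddCommGrpCat.{u}) F).2 fun x => hF x (by simpa using hd x)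
    rw [Ext.comp_zero, ← Ext.comp_mk₀_id e, hz.eq_of_src (𝟙 F) 0, Ext.mk₀_zero, Ext.comp_zero]
  | p + 1, j + 1, F, hF, hj, e => by
    have hS : (ShortComplex.mk (toCons F) (cokernel.π (toCons F)) (cokernel.condition _)).ShortExact :=
      { exact := ShortComplex.exact_of_g_is_cokernel _ (cokernelIsCokernel _) }
    have hsub : Subsingleton (Ext.{u} (SheafCoh.freeY (Opens.grothendieckTopology X) U) (consPush F) (p + 1)) :=
      @Equiv.subsingleton _ _
        (SheafCoh.HUext (J := Opens.grothendieckTopology X) (consPush F) (p + 1) U).symm.toEquiv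
        (qcFlasque_HU_subsingleton _ (isQcFlasque_consPush F) hU p)
    obtain ⟨y, rfl⟩ := Ext.covariant_sequence_exact₁ _ hS e (hsub.elim _ _) rfl
    obtain ⟨y', rfl⟩ := exists_lift_ext rk hrk d hd hU p j (cokernel (toCons F))
      (fun x hx =>
        haveI := epi_stalk_toCons F x fun z hz hne => hF z (by have := hrk z x hz hne; omega)
        isZero_stalk_cokernel (toCons F) x) (by omega) y
    exact ⟨y'.comp hS.extClass rfl, (Ext.comp_assoc _ _ _ (zero_add p) rfl (by omega)).symm⟩

theorem surjective_res (F : CohTop.Ab X) (d : ℕ) (hd : topologicalKrullDim X ≤ d) (U : Opens X)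
    (hU : IsCompact (U : Set X)) : Function.Surjective (CohTop.res F d (le_top : U ≤ ⊤)) := by
  intro ξ
  have hle : ∀ Z : IrreducibleCloseds X, Order.coheight Z ≤ d := fun Z =>
    WithBot.coe_le_coe.1 ((Order.coheight_le_krullDim Z).trans hd)
  obtain ⟨e', he'⟩ := exists_lift_ext (fun x => (Order.coheight (ptCl x)).toNat)
    (fun z x hzx hne => rk_lt d hle hzx hne) d
    (fun x => rk_le d hle x) hU d (d + 1) F (fun x hx => absurd hx (by omega)) le_rfl
    (SheafCoh.HUext (J := Opens.grothendieckTopology X) F d U ξ)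
  refine ⟨(SheafCoh.HUext (J := Opens.grothendieckTopology X) F d ⊤).symm e',
    (SheafCoh.HUext (J := Opens.grothendieckTopology X) F d U).injective ?_⟩
  refine (SheafCoh.res_eq (J := Opens.grothendieckTopology X) F d (homOfLE (le_top : U ≤ ⊤)) _).trans ?_
  rw [AddEquiv.apply_symm_apply]
  exact he'

end

end GrothLib.Spectral25
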