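import Groth.Agent.Lib.Spectral25.QcFlasque
import Groth.Agent.Lib.PBC25.Nbhds
import Mathlib.Topology.Spectral.Basic
import Mathlib.Topology.Spectral.ConstructibleTopology

/-!
# Cohomology of intersections of compact opens in spectral spaces
-/

set_option autoImplicit false
set_option backward.isDefEq.respectTransparency false
set_option backward.isDefEq.respectTransparency.types false

universe u

open CategoryTheory CategoryTheory.Limits Opposite TopologicalSpace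
open GrothLib.PBC25
open Topology (IsEmbedding)
open scoped Topology

namespace GrothLib.Spectral25

variable {X : TopCat.{u}}

/-- A family of compact open neighbourhoods of `Z` which is cofinal relative to every compact open. -/
structure Tube (Z : Set X) (P : Set (Opens X)) : Prop where
  compact : ∀ U ∈ P, IsCompact (U : Set X)
  sub : ∀ U ∈ P, Z ⊆ (U : Set X)
  cofinal : ∀ A : Opens X, IsCompact (A : Set X) → ∀ N : Opens X,
    Z ∩ (A : Set X) ⊆ (N : Set X) → ∃ U ∈ P, U ⊓ A ≤ N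

namespace Tube

variable {Z : Set X} {P : Set (Opens X)} (hT : Tube Z P)
include hT

theorem isCompact_inter [QuasiSeparatedSpace X] {A : Opens X} (hA : IsCompact (A : Set X)) :
    IsCompact (Z ∩ (A : Set X)) := by
  refine isCompact_of_finite_subcover fun {ι} V hVo hV => ?_
  obtain ⟨U, hU, hUA⟩ := hT.cofinal A hA ⟨⋃ i, V i, isOpen_iUnion hVo⟩ hV
  obtain ⟨t, ht⟩ := (QuasiSeparatedSpace.inter_isCompact _ _ U.isOpen (hT.compact U hU) A.isOpen
    hA).elim_finite_subcover V hVo hUA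
  exact ⟨t, fun x hx => ht ⟨hT.sub U hU hx.1, hx.2⟩⟩

theorem compactSpace [CompactSpace X] [QuasiSeparatedSpace X] : CompactSpace (TopCat.of Z) :=
  isCompact_iff_compactSpace.1 (by
    simpa using hT.isCompact_inter (A := ⊤) isCompact_univ)

theorem isCompact_trace [QuasiSeparatedSpace X] {A : Opens X} (hA : IsCompact (A : Set X)) :
    IsCompact ((((Opens.map (subIncl Z)).obj A : Opens (TopCat.of Z))) : Set (TopCat.of Z)) := by
  have h : (subIncl Z) '' ((Opens.map (subIncl Z)).obj A : Opens (TopCat.of Z)) =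
      Z ∩ (A : Set X) := by
    ext x
    exact ⟨fun ⟨z, hz, e⟩ => e ▸ ⟨z.2, hz⟩, fun hx => ⟨⟨x, hx.1⟩, hx.2, rfl⟩⟩
  rw [(Topology.IsEmbedding.subtypeVal : IsEmbedding (Subtype.val : Z → X)).isCompact_iff]
  exact (Eq.subst h.symm (hT.isCompact_inter hA) : IsCompact ((subIncl Z) '' _))

omit hT in
theorem exists_compact_open [PrespectralSpace X] {S : Set X} (hS : IsCompact S) {O : Opens X}
    (hSO : S ⊆ (O : Set X)) : ∃ A : Opens X, IsCompact (A : Set X) ∧ S ⊆ (A : Set X) ∧ A ≤ O := by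
  classical
  have hx : ∀ x : S, ∃ A : Opens X, IsCompact (A : Set X) ∧ x.1 ∈ A ∧ A ≤ O := fun x => by
    obtain ⟨W, ⟨hWo, hWc⟩, hxW, hWO⟩ :=
      (PrespectralSpace.isTopologicalBasis (X := X)).exists_subset_of_mem_open (hSO x.2) O.isOpen
    exact ⟨⟨W, hWo⟩, hWc, hxW, hWO⟩
  choose A hA hxA hAO using hx
  obtain ⟨T, hT⟩ := hS.elim_finite_subcover (fun x : S => (A x : Set X)) (fun x => (A x).isOpen)
    (fun y hy => Set.mem_iUnion.2 ⟨⟨y, hy⟩, hxA ⟨y, hy⟩⟩)
  refine ⟨T.sup A, ?_, fun y hy => ?_, Finset.sup_le fun x _ => hAO x⟩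
  · rw [Opens.coe_finset_sup, Finset.sup_set_eq_biUnion]
    exact T.isCompact_biUnion fun x _ => hA x
  · obtain ⟨a, ha, hy'⟩ := Set.mem_iUnion₂.1 (hT hy)
    exact (Finset.le_sup ha : A a ≤ T.sup A) hy'

theorem prespectralSpace [PrespectralSpace X] [QuasiSeparatedSpace X] :
    PrespectralSpace (TopCat.of Z) := by
  refine ⟨isTopologicalBasis_of_isOpen_of_nhds (fun U hU => hU.1) fun z O hz hO => ?_⟩
  obtain ⟨O', hO', rfl⟩ := isOpen_induced_iff.1 hO
  obtain ⟨A, ⟨hAo, hAc⟩, hzA, hAO⟩ :=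
    (PrespectralSpace.isTopologicalBasis (X := X)).exists_subset_of_mem_open hz hO'
  exact ⟨_, ⟨((Opens.map (subIncl Z)).obj ⟨A, hAo⟩).isOpen, hT.isCompact_trace (A := ⟨A, hAo⟩) hAc⟩,
    hzA, fun w hw => hAO hw⟩

omit hT in
theorem exists_trace [PrespectralSpace X] (U : Opens (TopCat.of Z))
    (hU : IsCompact (U : Set (TopCat.of Z))) :
    ∃ A : Opens X, IsCompact (A : Set X) ∧ (Opens.map (subIncl Z)).obj A = U := by
  obtain ⟨O, hO, e⟩ := isOpen_induced_iff.1 U.isOpen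
  obtain ⟨A, hA, hSA, hAO⟩ := exists_compact_open (S := (subIncl Z) '' (U : Set (TopCat.of Z)))
    (hU.image (subIncl Z).hom.continuous) (O := ⟨O, hO⟩) (by
      rintro _ ⟨z, hz, rfl⟩
      rw [← e] at hz
      exact hz)
  refine ⟨A, hA, le_antisymm (fun z hz => ?_) fun z hz => hSA ⟨z, hz, rfl⟩⟩
  change z ∈ (U : Set (TopCat.of Z))
  rw [← e]
  exact hAO hz

theorem quasiSeparatedSpace [PrespectralSpace X] [QuasiSeparatedSpace X] :
    QuasiSeparatedSpace (TopCat.of Z) := by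
  refine ⟨fun U V hUo hU hVo hV => ?_⟩
  obtain ⟨A, hA, eA⟩ := exists_trace (Z := Z) ⟨U, hUo⟩ hU
  obtain ⟨B, hB, eB⟩ := exists_trace (Z := Z) ⟨V, hVo⟩ hV
  have := hT.isCompact_trace (A := A ⊓ B)
    (QuasiSeparatedSpace.inter_isCompact _ _ A.isOpen hA B.isOpen hB)
  rw [show (Opens.map (subIncl Z)).obj (A ⊓ B) =
    (Opens.map (subIncl Z)).obj A ⊓ (Opens.map (subIncl Z)).obj B from rfl, eA, eB] at this
  exact this

omit hT in
/-- A section on the subspace comes from the compact open `O` downstairs. -/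
def Near (Z : Set X) (G : CohTop.Ab X) {W : Opens (TopCat.of Z)}
    (t : ((CohTop.pull (subIncl Z)).obj G).obj.obj (op W)) (O : Opens X) : Prop :=
  IsCompact (O : Set X) ∧ ∃ (h : (Opens.map (subIncl Z)).obj O ≤ W) (g : G.obj.obj (op O)),
    sec (subIncl Z) G (le_refl ((Opens.map (subIncl Z)).obj O)) g =
      ((CohTop.pull (subIncl Z)).obj G).obj.map (homOfLE h).op t

variable (G : CohTop.Ab X)

theorem near_union [PrespectralSpace X] [QuasiSeparatedSpace X] {W : Opens (TopCat.of Z)}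
    (t : ((CohTop.pull (subIncl Z)).obj G).obj.obj (op W)) {O₁ O₂ : Opens X}
    (n₁ : Near Z G t O₁) (n₂ : Near Z G t O₂) :
    ∃ O : Opens X, Z ∩ ((O₁ : Set X) ∪ O₂) ⊆ (O : Set X) ∧ Near Z G t O := by
  obtain ⟨c₁, h₁, g₁, e₁⟩ := n₁
  obtain ⟨c₂, h₂, g₂, e₂⟩ := n₂
  let i := subIncl Z
  let T₁ : Opens (TopCat.of Z) := (Opens.map i).obj O₁
  let T₂ : Opens (TopCat.of Z) := (Opens.map i).obj O₂
  have he : sec i G ((inf_le_left : T₁ ⊓ T₂ ≤ T₁).trans le_rfl) g₁ =
      sec i G ((inf_le_right : T₁ ⊓ T₂ ≤ T₂).trans le_rfl) g₂ := by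
    rw [← res_sec i G (le_refl T₁) inf_le_left, ← res_sec i G (le_refl T₂) inf_le_right,
      e₁, e₂, res_res, res_res]
  obtain ⟨N, m₁, m₂, hN, heq⟩ := sec_eq i G _ _ g₁ g₂ he
  obtain ⟨U, hU, hUN⟩ := hT.cofinal (O₁ ⊓ O₂)
    (QuasiSeparatedSpace.inter_isCompact _ _ O₁.isOpen c₁ O₂.isOpen c₂) N
    (fun x hx => hN (x := (⟨x, hx.1⟩ : Z)) hx.2)
  obtain ⟨g, hg₁, hg₂⟩ := glue₂ G (G.obj.map (homOfLE (inf_le_right : U ⊓ O₁ ≤ O₁)).op g₁)
    (G.obj.map (homOfLE (inf_le_right : U ⊓ O₂ ≤ O₂)).op g₂) (by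
      have hle : (U ⊓ O₁) ⊓ (U ⊓ O₂) ≤ N := fun x hx => hUN ⟨hx.1.1, hx.1.2, hx.2.2⟩
      have := congrArg (G.obj.map (homOfLE hle).op) heq
      rw [res_res, res_res] at this
      rw [res_res, res_res]
      exact this)
  let O : Opens X := (U ⊓ O₁) ⊔ (U ⊓ O₂)
  have hc : IsCompact (O : Set X) :=
    (QuasiSeparatedSpace.inter_isCompact _ _ U.isOpen (hT.compact U hU) O₁.isOpen c₁).union
      (QuasiSeparatedSpace.inter_isCompact _ _ U.isOpen (hT.compact U hU) O₂.isOpen c₂)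
  have hle : (Opens.map i).obj O ≤ W := by
    rintro z (hz | hz)
    · exact h₁ hz.2
    · exact h₂ hz.2
  refine ⟨O, ?_, hc, hle, g, eq_of_cover _ fun z hz => ?_⟩
  · rintro x ⟨hx, hx' | hx'⟩
    · exact Or.inl ⟨hT.sub U hU hx, hx'⟩
    · exact Or.inr ⟨hT.sub U hU hx, hx'⟩
  rcases hz with hz | hz
  · refine ⟨(Opens.map i).obj (U ⊓ O₁), fun y hy => Or.inl hy, hz, ?_⟩
    rw [res_res, res_sec, ← sec_res i G (le_sup_left : U ⊓ O₁ ≤ O) le_rfl g, hg₁, sec_res,
      ← res_sec i G (le_refl T₁) ((fun y hy => hy.2) : (Opens.map i).obj (U ⊓ O₁) ≤ T₁), e₁, res_res]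
  · refine ⟨(Opens.map i).obj (U ⊓ O₂), fun y hy => Or.inr hy, hz, ?_⟩
    rw [res_res, res_sec, ← sec_res i G (le_sup_right : U ⊓ O₂ ≤ O) le_rfl g, hg₂, sec_res,
      ← res_sec i G (le_refl T₂) ((fun y hy => hy.2) : (Opens.map i).obj (U ⊓ O₂) ≤ T₂), e₂, res_res]

theorem exists_near [PrespectralSpace X] [QuasiSeparatedSpace X] {W : Opens (TopCat.of Z)}
    (hW : IsCompact (W : Set (TopCat.of Z)))
    (t : ((CohTop.pull (subIncl Z)).obj G).obj.obj (op W)) :
    ∃ O : Opens X, W ≤ (Opens.map (subIncl Z)).obj O ∧ Near Z G t O := by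
  classical
  let i := subIncl Z
  have hx : ∀ z : W, ∃ O : Opens X, i z.1 ∈ O ∧ Near Z G t O := fun z => by
    obtain ⟨W', hW', V, g, h, hzW, e⟩ := exists_sec_local i G t z.1 z.2
    obtain ⟨O', hO', eO'⟩ := isOpen_induced_iff.1 W'.isOpen
    have hzO : i z.1 ∈ (O' ∩ (V : Set X)) := by
      refine ⟨?_, h hzW⟩
      have : z.1 ∈ (W' : Set (TopCat.of Z)) := hzW
      rw [← eO'] at this
      exact this
    obtain ⟨A, ⟨hAo, hAc⟩, hzA, hA⟩ :=
      (PrespectralSpace.isTopologicalBasis (X := X)).exists_subset_of_mem_open hzO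
        (hO'.inter V.isOpen)
    let O : Opens X := ⟨A, hAo⟩
    have hAV : O ≤ V := fun x hx => (hA hx).2
    have hAW : (Opens.map i).obj O ≤ W' := fun y hy => by
      change y ∈ (W' : Set (TopCat.of Z))
      rw [← eO']
      exact (hA hy).1
    refine ⟨O, hzA, hAc, hAW.trans hW', G.obj.map (homOfLE hAV).op g, ?_⟩
    rw [sec_res, ← res_sec i G h hAW, ← e, res_res]
  choose O hzO hn using hx
  obtain ⟨T, hT'⟩ := hW.elim_finite_subcover (fun z : W => (((Opens.map i).obj (O z) :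
    Opens (TopCat.of Z)) : Set (TopCat.of Z))) (fun z => (Opens.isOpen _))
    (fun y hy => Set.mem_iUnion.2 ⟨⟨y, hy⟩, hzO ⟨y, hy⟩⟩)
  have key : ∀ T' : Finset W, ∃ O' : Opens X,
      (∀ a ∈ T', Z ∩ (O a : Set X) ⊆ (O' : Set X)) ∧ Near Z G t O' := by
    intro T'
    induction T' using Finset.induction_on with
    | empty =>
      exact ⟨⊥, by simp, by simp, fun y hy => hy.elim, 0,
        eq_of_cover _ fun y hy => hy.elim⟩
    | insert a T' _ ih =>
      obtain ⟨O', hO', hn'⟩ := ih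
      obtain ⟨O'', hO'', hn''⟩ := hT.near_union G t (hn a) hn'
      refine ⟨O'', fun b hb => ?_, hn''⟩
      rcases Finset.mem_insert.1 hb with rfl | hb
      · exact fun x hx => hO'' ⟨hx.1, Or.inl hx.2⟩
      · exact fun x hx => hO'' ⟨hx.1, Or.inr (hO' b hb hx)⟩
  obtain ⟨O', hO', hn'⟩ := key T
  refine ⟨O', fun z hz => ?_, hn'⟩
  obtain ⟨a, ha, hza⟩ := Set.mem_iUnion₂.1 (hT' hz)
  exact hO' a ha ⟨z.2, hza⟩

theorem isQcFlasque_pull [PrespectralSpace X] [QuasiSeparatedSpace X] [TopCat.Sheaf.IsFlasque G] :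
    IsQcFlasque ((CohTop.pull (subIncl Z)).obj G) := by
  intro U hU s
  obtain ⟨O, hUO, -, hOU, g, e⟩ := hT.exists_near G hU s
  obtain ⟨g', rfl⟩ := exists_global G g
  refine ⟨sec (subIncl Z) G (W := ⊤) (V := ⊤) (fun _ _ => trivial) g', ?_⟩
  have := congrArg (((CohTop.pull (subIncl Z)).obj G).obj.map (homOfLE hUO).op) e
  rw [res_res, res_self, res_sec, sec_res] at this
  rw [res_sec]
  exact this

/-- Restriction to the subspace is bijective on germs along the tube. -/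
theorem exists_sec [PrespectralSpace X] [QuasiSeparatedSpace X] [CompactSpace X]
    (t : ((CohTop.pull (subIncl Z)).obj G).obj.obj (op ⊤)) :
    ∃ U ∈ P, ∀ (h : (⊤ : Opens (TopCat.of Z)) ≤ (Opens.map (subIncl Z)).obj U),
      ∃ g : G.obj.obj (op U), sec (subIncl Z) G h g = t := by
  have := hT.compactSpace
  obtain ⟨O, hO, -, hOW, g, e⟩ := hT.exists_near G isCompact_univ t
  obtain ⟨U, hU, hUO⟩ := hT.cofinal ⊤ isCompact_univ O (fun x hx => hO (x := ⟨x, hx.1⟩) trivial)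
  have hUO' : U ≤ O := fun x hx => hUO ⟨hx, trivial⟩
  refine ⟨U, hU, fun h => ⟨G.obj.map (homOfLE hUO').op g, ?_⟩⟩
  rw [sec_res]
  have := congrArg (((CohTop.pull (subIncl Z)).obj G).obj.map (homOfLE hO).op) e
  rw [res_res, res_self, res_sec] at this
  exact this

theorem exists_zero [CompactSpace X] {V : Opens X}
    (h : (⊤ : Opens (TopCat.of Z)) ≤ (Opens.map (subIncl Z)).obj V) (g : G.obj.obj (op V))
    (h0 : sec (subIncl Z) G h g = 0) :
    ∃ U ∈ P, ∃ hU : U ≤ V, G.obj.map (homOfLE hU).op g = 0 := by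
  obtain ⟨V', hV, hV', e⟩ := sec_zero (subIncl Z) G h g h0
  obtain ⟨U, hU, hUV⟩ := hT.cofinal ⊤ isCompact_univ V' (fun x hx => hV' (x := ⟨x, hx.1⟩) trivial)
  have hU' : U ≤ V' := fun x hx => hUV ⟨hx, trivial⟩
  refine ⟨U, hU, hU'.trans hV, ?_⟩
  rw [← res_res G hV hU', e, map_zero]

theorem nonempty_rightDerived_sub [PrespectralSpace X] [QuasiSeparatedSpace X] [CompactSpace X]
    [(CohTop.pull (subIncl Z)).Additive] (F : CohTop.Ab X) (n : ℕ) :
    Nonempty (((CohTop.pull (subIncl Z) ⋙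
      GrothSS.secAt (Opens.grothendieckTopology (TopCat.of Z)) ⊤).rightDerived n).obj F
      ≅ AddCommGrpCat.of (CohTop.H ((CohTop.pull (subIncl Z)).obj F) n)) := by
  have := hT.compactSpace
  have := hT.prespectralSpace
  have := hT.quasiSeparatedSpace
  have := SheafCoh.preservesFiniteLimits_pull (subIncl Z)
  have := preservesFiniteColimits_pull (subIncl Z)
  have hacy : ∀ (J : CohTop.Ab X), Injective J → ∀ k : ℕ,
      IsZero (((GrothSS.secAt (Opens.grothendieckTopology (TopCat.of Z)) ⊤).rightDerived (k + 1)).obj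
        ((CohTop.pull (subIncl Z)).obj J)) := by
    intro J hJ k
    have := SheafCoh.isFlasque_of_injective J
    have := qcFlasque_HU_subsingleton _ (hT.isQcFlasque_pull J) (U := ⊤) isCompact_univ k
    exact IsZero.of_iso (AddCommGrpCat.isZero_of_subsingleton _)
      (GrothSS.rightDerivedSecAtIso (Opens.grothendieckTopology (TopCat.of Z)) ⊤ _ (k + 1))
  obtain ⟨e⟩ := RDerLES.nonempty_rightDerived_comp_iso (CohTop.pull (subIncl Z))
    (GrothSS.secAt (Opens.grothendieckTopology (TopCat.of Z)) ⊤) hacy n F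
  exact ⟨e ≪≫ GrothSS.rightDerivedSecAtIso (Opens.grothendieckTopology (TopCat.of Z)) ⊤ _ n ≪≫
    (SheafCoh.HEquivHU (J := Opens.grothendieckTopology (TopCat.of Z)) _ n
      (isTerminalTop (α := Opens (TopCat.of Z)))).symm.toAddCommGrpIso⟩

end Tube

/-- In a spectral space, intersections of compact opens give tubes. -/
theorem tube_of_inter [SpectralSpace X] (Z : Set X) (P : Set (Opens X))
    (hc : ∀ U ∈ P, IsCompact (U : Set X)) (hs : ∀ U ∈ P, Z ⊆ (U : Set X)) (htop : ⊤ ∈ P)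
    (hinf : ∀ U ∈ P, ∀ V ∈ P, U ⊓ V ∈ P) (hsep : ∀ x, x ∉ Z → ∃ U ∈ P, x ∉ U) :
    Tube Z P := by
  classical
  refine ⟨hc, hs, fun A hA N hN => ?_⟩
  let q : WithConstructibleTopology X → X := WithTopology.ofTopology
  have hq : Continuous[_, constructibleTopology X] q := WithTopology.continuous_ofTopology _
  have hopen : ∀ U : Opens X, IsCompact (U : Set X) → IsOpen (q ⁻¹' (U : Set X)) := fun U hU =>
    @IsOpen.preimage _ _ _ (constructibleTopology X) q hq _
      (hU.isOpen_constructibleTopology_of_isOpen U.isOpen)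
  have hclosed : ∀ U : Opens X, IsCompact (U : Set X) → IsClosed (q ⁻¹' (U : Set X)) := fun U hU => by
    rw [← isOpen_compl_iff, ← Set.preimage_compl]
    exact @IsOpen.preimage _ _ _ (constructibleTopology X) q hq _
      (IsCompact.isOpen_constructibleTopology_of_isClosed
      (by rwa [compl_compl]) U.isOpen.isClosed_compl)
  have hN' : IsOpen (q ⁻¹' (N : Set X)) := by
    refine isOpen_iff_forall_mem_open.2 fun w hw => ?_
    obtain ⟨B, ⟨hBo, hBc⟩, hwB, hBN⟩ :=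
      (PrespectralSpace.isTopologicalBasis (X := X)).exists_subset_of_mem_open
        (show q w ∈ (N : Set X) from hw) N.isOpen
    exact ⟨q ⁻¹' B, Set.preimage_mono hBN, hopen ⟨B, hBo⟩ hBc, hwB⟩
  let C : Set (WithConstructibleTopology X) := q ⁻¹' (A : Set X) ∩ (q ⁻¹' (N : Set X))ᶜ
  have hC : IsCompact C := ((hclosed A hA).inter hN'.isClosed_compl).isCompact
  let P' := {U : Opens X // U ∈ P}
  obtain ⟨T, hT⟩ := hC.elim_finite_subcover (fun U : P' => (q ⁻¹' (U.1 : Set X))ᶜ)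
    (fun U => (hclosed U.1 (hc U.1 U.2)).isOpen_compl) (fun w hw => by
      obtain ⟨U, hU, hx⟩ := hsep (q w) (fun hx => hw.2 (hN ⟨hx, hw.1⟩))
      exact Set.mem_iUnion.2 ⟨⟨U, hU⟩, hx⟩)
  refine ⟨T.inf (fun U : P' => U.1),
    Finset.inf_induction (p := fun U => U ∈ P) htop (fun a ha b hb => hinf a ha b hb)
      (fun U _ => U.2), fun x hx => ?_⟩
  by_contra hxN
  obtain ⟨w, rfl⟩ : ∃ w, q w = x := WithTopology.ofTopology_surjective _ x
  obtain ⟨U, hU, hwU⟩ := Set.mem_iUnion₂.1 (hT (show w ∈ C from ⟨hx.2, hxN⟩))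
  exact hwU ((Finset.inf_le hU : T.inf (fun U : P' => U.1) ≤ U.1) hx.1)

end GrothLib.Spectral25
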