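import Groth.Agent.Lib.PBC25.Flasque
import Groth.Agent.Lib.Cech.Compare
import Groth.Agent.Lib.SheafCoh.Top
import Mathlib.Topology.Spectral.Prespectral
import Mathlib.Topology.QuasiSeparated

/-!
# Sheaves flasque on compact opens are acyclic
-/

set_option autoImplicit false
set_option backward.isDefEq.respectTransparency false
set_option backward.isDefEq.respectTransparency.types false

universe u

open CategoryTheory CategoryTheory.Limits Opposite TopologicalSpace
open GrothLib.PBC25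

namespace GrothLib.Spectral25

variable {K : TopCat.{u}}

/-- Sections over compact opens extend to the whole space. -/
def IsQcFlasque (F : CohTop.Ab K) : Prop :=
  ∀ U : Opens K, IsCompact (U : Set K) → ∀ s : F.obj.obj (op U),
    ∃ t : F.obj.obj (op ⊤), F.obj.map (homOfLE (le_top : U ≤ ⊤)).op t = s

theorem isQcFlasque_of_flasque (F : CohTop.Ab K) [TopCat.Sheaf.IsFlasque F] : IsQcFlasque F :=
  fun _ _ s => exists_global F s

variable {S : ShortComplex (CohTop.Ab K)}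

/-- A section of the quotient lifts on `W`. -/
def LiftsOn {U : Opens K} (s : S.X₃.obj.obj (op U)) (W : Opens K) : Prop :=
  ∃ (hW : W ≤ U) (t : S.X₂.obj.obj (op W)),
    S.g.hom.app (op W) t = S.X₃.obj.map (homOfLE hW).op s

theorem liftsOn_sup [QuasiSeparatedSpace K] (hS : S.ShortExact) (h₁ : IsQcFlasque S.X₁)
    {U : Opens K} (s : S.X₃.obj.obj (op U)) {W₁ W₂ : Opens K} (c₁ : IsCompact (W₁ : Set K))
    (c₂ : IsCompact (W₂ : Set K)) (l₁ : LiftsOn s W₁) (l₂ : LiftsOn s W₂) :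
    LiftsOn s (W₁ ⊔ W₂) := by
  obtain ⟨u₁, t₁, e₁⟩ := l₁
  obtain ⟨u₂, t₂, e₂⟩ := l₂
  obtain ⟨r, hr⟩ := Cech.sections_exact hS (W₁ ⊓ W₂)
    (S.X₂.obj.map (homOfLE inf_le_left).op t₁ - S.X₂.obj.map (homOfLE inf_le_right).op t₂) (by
      rw [map_sub, app_res, app_res, e₁, e₂, res_res, res_res, sub_self])
  obtain ⟨r', hr'⟩ := h₁ (W₁ ⊓ W₂)
    (QuasiSeparatedSpace.inter_isCompact _ _ W₁.isOpen c₁ W₂.isOpen c₂) r
  obtain ⟨t, ht₁, ht₂⟩ := glue₂ S.X₂ t₁
    (t₂ + S.f.hom.app (op W₂) (S.X₁.obj.map (homOfLE (le_top : W₂ ≤ ⊤)).op r')) (by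
      rw [map_add, ← app_res, res_res, hr', hr, add_sub_cancel])
  refine ⟨sup_le u₁ u₂, t, eq_of_cover _ fun x hx => ?_⟩
  rcases hx with hx | hx
  · refine ⟨W₁, le_sup_left, hx, ?_⟩
    rw [res_res, ← app_res, ht₁, e₁]
  · refine ⟨W₂, le_sup_right, hx, ?_⟩
    have hz : S.g.hom.app (op W₂) (S.f.hom.app (op W₂)
        (S.X₁.obj.map (homOfLE (le_top : W₂ ≤ ⊤)).op r')) = 0 :=
      ConcreteCategory.congr_hom (congrArg (fun k => k.hom.app (op W₂)) S.zero) _
    rw [res_res, ← app_res, ht₂, map_add, hz, add_zero, e₂]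

theorem liftsOn_self [PrespectralSpace K] [QuasiSeparatedSpace K] (hS : S.ShortExact)
    (h₁ : IsQcFlasque S.X₁) {U : Opens K} (hU : IsCompact (U : Set K))
    (s : S.X₃.obj.obj (op U)) : LiftsOn s U := by
  classical
  have := hS.epi_g
  have hx : ∀ x : U, ∃ W : Opens K, IsCompact (W : Set K) ∧ x.1 ∈ W ∧ LiftsOn s W := fun x => by
    obtain ⟨V, f, ⟨t, ht⟩, hxV⟩ := SheafCoh.imageSieve_mem_of_epi
      (J := Opens.grothendieckTopology K) S.g s x.1 x.2
    obtain ⟨W, ⟨hWo, hWc⟩, hxW, hWV⟩ :=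
      (PrespectralSpace.isTopologicalBasis (X := K)).exists_subset_of_mem_open hxV V.isOpen
    have hWV' : (⟨W, hWo⟩ : Opens K) ≤ V := hWV
    refine ⟨⟨W, hWo⟩, hWc, hxW, hWV'.trans (leOfHom f),
      S.X₂.obj.map (homOfLE hWV').op t, ?_⟩
    rw [app_res, ht]
    exact res_res S.X₃ (leOfHom f) hWV' s
  choose W hWc hxW hl using hx
  obtain ⟨T, hT⟩ := hU.elim_finite_subcover (fun x : U => (W x : Set K)) (fun x => (W x).isOpen)
    (fun y hy => Set.mem_iUnion.2 ⟨⟨y, hy⟩, hxW ⟨y, hy⟩⟩)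
  have key : ∀ T' : Finset U, IsCompact ((T'.sup W : Opens K) : Set K) ∧ LiftsOn s (T'.sup W) := by
    intro T'
    induction T' using Finset.induction_on with
    | empty =>
      rw [Finset.sup_empty]
      exact ⟨by simp, bot_le, 0, eq_of_cover _ fun x hx => hx.elim⟩
    | insert a T' _ ih =>
      rw [Finset.sup_insert]
      exact ⟨by rw [Opens.coe_sup]; exact (hWc a).union ih.1,
        liftsOn_sup hS h₁ s (hWc a) ih.1 (hl a) ih.2⟩
  obtain ⟨-, hle, t, ht⟩ := key T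
  have e : T.sup W = U := le_antisymm hle fun y hy => by
    obtain ⟨a, ha, hy'⟩ := Set.mem_iUnion₂.1 (hT hy)
    exact (Finset.le_sup ha : W a ≤ T.sup W) hy'
  have hall : LiftsOn s (T.sup W) := ⟨hle, t, ht⟩
  rwa [e] at hall

theorem surjective_of_isQcFlasque [PrespectralSpace K] [QuasiSeparatedSpace K] (hS : S.ShortExact)
    (h₁ : IsQcFlasque S.X₁) {U : Opens K} (hU : IsCompact (U : Set K)) :
    Function.Surjective (S.g.hom.app (op U)) := by
  intro s
  obtain ⟨_, t, e⟩ := liftsOn_self hS h₁ hU s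
  exact ⟨t, e.trans (res_self _ _ s)⟩

theorem isQcFlasque_X₃ [PrespectralSpace K] [QuasiSeparatedSpace K] (hS : S.ShortExact)
    (h₁ : IsQcFlasque S.X₁) (h₂ : IsQcFlasque S.X₂) : IsQcFlasque S.X₃ := by
  intro U hU s
  obtain ⟨t, rfl⟩ := surjective_of_isQcFlasque hS h₁ hU s
  obtain ⟨t', ht'⟩ := h₂ U hU t
  exact ⟨S.g.hom.app (op ⊤) t', by rw [← app_res, ht']⟩

theorem qcFlasque_HU_subsingleton [PrespectralSpace K] [QuasiSeparatedSpace K] (F : CohTop.Ab K)
    (hF : IsQcFlasque F) {U : Opens K} (hU : IsCompact (U : Set K)) (n : ℕ) :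
    Subsingleton (CohTop.HU F (n + 1) U) :=
  SheafCoh.subsingleton_HU_of_class (J := Opens.grothendieckTopology K) U IsQcFlasque
    (fun G hG => by
      have hS : ShortComplex.ShortExact (SheafCoh.injSES G) := SheafCoh.injSES_shortExact G
      have h₂ : IsQcFlasque (SheafCoh.injSES G).X₂ :=
        @isQcFlasque_of_flasque _ (Injective.under G) (SheafCoh.isFlasque_of_injective _)
      exact ⟨isQcFlasque_X₃ hS hG h₂, surjective_of_isQcFlasque hS hG hU⟩) F hF n

end GrothLib.Spectral25
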